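import Cfsg.Agent.H28.TwoLength.Plane

/-!
A deficient `2`-element centralises the part of the symplectic section fixed by its involution.
-/

set_option autoImplicit false
set_option linter.style.haveILetI false

namespace H58.Bryu

open Module H28 H28.SG H28.TwoLength
open scoped commutatorElement

universe u v w

/-- An automorphism preserving a subgroup, restricted to it. -/
def restrictAut {C : Type u} [Group C] (θ : MulAut C) (R : Subgroup C)
    (h : ∀ x, θ x ∈ R ↔ x ∈ R) : MulAut R :=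
  { θ.toEquiv.subtypeEquiv fun x => (h x).symm with
    map_mul' := fun a b => Subtype.ext (map_mul θ (a : C) b) }

theorem restrictAut_coe {C : Type u} [Group C] (θ : MulAut C) (R : Subgroup C)
    (h : ∀ x, θ x ∈ R ↔ x ∈ R) (x : R) : ((restrictAut θ R h x : R) : C) = θ x := rfl

theorem restrictAut_pow {C : Type u} [Group C] (θ : MulAut C) (R : Subgroup C)
    (h : ∀ x, θ x ∈ R ↔ x ∈ R) (l : ℕ) (x : R) :
    (((restrictAut θ R h ^ l) x : R) : C) = (θ ^ l) x := by
  induction l with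
  | zero => rfl
  | succ l ih => rw [pow_succ', pow_succ', MulAut.mul_apply, MulAut.mul_apply, restrictAut_coe, ih]

variable {K : Type v} [Field K] [CharP K 2]
variable {W : Type w} [AddCommGroup W] [Module K W]

/-- The order of a deficient element divides its period. -/
theorem pow_eq_one_of_geom_sum {R : Type*} [Ring R] (s : R) (n : ℕ)
    (h : ∑ i ∈ Finset.range n, s ^ i = 0) : s ^ n = 1 := by
  have h1 := geom_sum_mul s n
  rw [h, zero_mul] at h1
  exact sub_eq_zero.mp h1.symm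

/-- The sum of the powers of odd exponent. -/
theorem sum_range_two_mul {V : Type*} [AddCommGroup V] [Module K V] (g : ℕ → V) (N : ℕ) :
    ∑ l ∈ Finset.range (2 * N), (l : K) • g l = ∑ i ∈ Finset.range N, g (2 * i + 1) := by
  induction N with
  | zero => simp
  | succ N ih =>
    rw [show 2 * (N + 1) = 2 * N + 1 + 1 by ring, Finset.sum_range_succ, Finset.sum_range_succ, ih,
      Finset.sum_range_succ (fun i => g (2 * i + 1)) N]
    simp [CharTwo.two_eq_zero]

theorem mem_of_sq_mem {Q : Type u} [Group Q] [Finite Q] (hodd : Odd (Nat.card Q)) (M : Subgroup Q)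
    (x : Q) (h : x * x ∈ M) : x ∈ M := by
  obtain ⟨t, ht⟩ := hodd
  have h1 : x = (x * x) ^ (t + 1) := by
    rw [← sq, ← pow_mul, show 2 * (t + 1) = (2 * t + 1) + 1 by ring, pow_succ, ← ht,
      pow_card_eq_one', one_mul]
  rw [h1]
  exact pow_mem h _

omit [CharP K 2] in
theorem restrict_pow_coe {S : Submodule K W} {a : Module.End K W} (h : ∀ x ∈ S, a x ∈ S) (l : ℕ)
    (x : S) : (((a.restrict h) ^ l) x : W) = (a ^ l) x := by
  induction l with
  | zero => rfl
  | succ l ih => rw [pow_succ', pow_succ', Module.End.mul_apply, Module.End.mul_apply, ← ih]; rfl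

variable [IsAlgClosed K] [FiniteDimensional K W]

/-- A deficient twist of a nondegenerate section inverted by its involution fixes the index. -/
theorem deficient_index [Nontrivial W] {Q : Type u} [Group Q] [Finite Q]
    (hodd : Odd (Nat.card Q)) (M : Subgroup Q) [M.Normal] (hMtop : M ≠ ⊤) (θ : MulAut Q) {f : ℕ}
    (hf : 1 ≤ f)
    (hθ : θ ^ 2 ^ f = 1) (hθM : ∀ x ∈ M, θ x ∈ M)
    (hinv : ∀ x, x * (θ ^ 2 ^ (f - 1)) x ∈ M) (ρ : Q →* Module.End K W)
    (hscal : ∀ x ∈ M, ∃ e : K, ρ x = e • (1 : Module.End K W))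
    (hθρ : ∀ x ∈ M, ρ (θ x) = ρ x) (hcom : ∀ x y : Q, ⁅x, y⁆ ∈ M)
    (hnd : ∀ w : Q, (∀ y : Q, ρ ⁅y, w⁆ = 1) → w ∈ M) (s : Module.End K W)
    (hs : ∀ a, s * ρ a = ρ (θ a) * s) (hdef : ∑ l ∈ Finset.range (2 ^ f), s ^ l = 0) :
    M.index = (2 ^ f - 1) ^ 2 := by
  rcases Nat.lt_or_ge 1 f with hf2 | hf1
  · have hP : 2 < 2 ^ f :=
      lt_of_lt_of_le (by norm_num : 2 < 2 ^ 2) (Nat.pow_le_pow_right two_pos hf2)
    refine norm_bound (p := 2) (n := f) rfl hP M hMtop
      (natCast_ne_zero_of_odd (hodd.of_dvd_nat M.index_dvd_card)) θ hθ hθM ?_ ρ hscal hθρ hcom hnd s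
      (pow_eq_one_of_geom_sum s _ hdef)
      (by rw [← H11.HB.geom_sum_eq_sub_one_pow (K := K)]; exact hdef) hs
    intro k hk hkP x hx
    refine mem_of_sq_mem hodd M x ?_
    let q : Equiv.Perm (Q ⧸ M) := (quotAut θ M hθM).toEquiv
    have hq : ∀ l : ℕ, (⇑q)^[l] (x : Q ⧸ M) = (((θ ^ l) x : Q) : Q ⧸ M) := fun l => by
      show (⇑(quotAut θ M hθM))^[l] _ = _
      rw [aut_iterate, quotAut_pow_mk]
    have hk' : Function.IsPeriodicPt q k (x : Q ⧸ M) := by
      show (⇑q)^[k] _ = _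
      rw [hq]
      exact (QuotientGroup.eq.mpr hx).symm
    have hP' : Function.IsPeriodicPt q (2 ^ f) (x : Q ⧸ M) := by
      show (⇑q)^[2 ^ f] _ = _
      rw [hq, hθ]; rfl
    obtain ⟨a, haf, haL⟩ := (Nat.dvd_prime_pow Nat.prime_two).mp hP'.minimalPeriod_dvd
    have ha : a ≤ f - 1 := by
      by_contra hgt
      obtain rfl : a = f := by omega
      have h4 := Nat.le_of_dvd hk (haL ▸ hk'.minimalPeriod_dvd)
      omega
    have hτx : (⇑q)^[2 ^ (f - 1)] (x : Q ⧸ M) = (x : Q ⧸ M) :=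
      (Function.isPeriodicPt_minimalPeriod _ _).trans_dvd (haL ▸ pow_dvd_pow 2 ha)
    rw [hq] at hτx
    have h6 := mul_mem (hinv x) (inv_mem (QuotientGroup.eq.mp hτx.symm))
    rwa [show x * (θ ^ 2 ^ (f - 1)) x * (x⁻¹ * (θ ^ 2 ^ (f - 1)) x)⁻¹ = x * x by group] at h6
  · obtain rfl : f = 1 := by omega
    rw [pow_one, Finset.sum_range_succ, Finset.sum_range_one, pow_zero, pow_one] at hdef
    haveI : CharP (Module.End K W) 2 := charP_of_injective_algebraMap' K 2
    have hs1 : s = 1 := by rw [← CharTwo.add_eq_zero, add_comm]; exact hdef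
    exfalso
    refine hMtop ?_
    refine eq_top_iff.mpr fun x _ => mem_of_sq_mem hodd M x (hnd _ fun y => ?_)
    have h1 := hs x
    rw [hs1, one_mul, mul_one] at h1
    obtain ⟨e, he⟩ := hscal _ (hinv x)
    have h2 : ρ (x * x) = e • (1 : Module.End K W) := by
      rw [← he, map_mul, map_mul, show (θ ^ 2 ^ (1 - 1)) x = θ x from rfl, ← h1]
    refine map_commutator_eq_one ?_
    rw [h2, mul_smul_comm, smul_mul_assoc, mul_one, one_mul]

/-- If the involution of a deficient twist inverts a plane, the twist has exactly that period and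
centralises what its involution centralises. -/
theorem fix_core [Nontrivial W] {C : Type u} [Group C] [Finite C] (hodd : Odd (Nat.card C))
    (θ : MulAut C) {f : ℕ} (hf : 1 ≤ f) (hθ : θ ^ 2 ^ f = 1) (ρ : C →* Module.End K W)
    (s : Module.End K W) (hs : ∀ a, s * ρ a = ρ (θ a) * s)
    (hdef : ∑ l ∈ Finset.range (2 ^ f), s ^ l = 0)
    (hscal : ∀ x y : C, ∃ c : K, ρ ⁅x, y⁆ = c • (1 : Module.End K W))
    (hθcom : ∀ x y : C, ρ (θ ⁅x, y⁆) = ρ ⁅x, y⁆)
    (hMscal : ∀ x ∈ radical ρ, ∃ c : K, ρ x = c • (1 : Module.End K W))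
    (hMθ : ∀ x ∈ radical ρ, ρ (θ x) = ρ x)
    {r k : ℕ} (hr : 2 ≤ r) (hk : 2 ≤ k) (hrk : r + 1 = 2 ^ k) (R₂ : Subgroup C)
    (hR₂ : ∀ x, x ∈ R₂ ↔ x * (θ ^ 2 ^ (f - 1)) x ∈ radical ρ)
    (hidx : (radical ρ).relIndex R₂ = r ^ 2) :
    f = k ∧ ∀ y, y⁻¹ * (θ ^ 2 ^ (f - 1)) y ∈ radical ρ → y⁻¹ * θ y ∈ radical ρ := by
  set M := radical ρ with hM
  set τ := θ ^ 2 ^ (f - 1) with hτ
  have hττ : ∀ x, τ (τ x) = x := fun x => by
    rw [← MulAut.mul_apply, hτ, ← pow_add, ← two_mul, ← pow_succ', Nat.sub_add_cancel hf, hθ]; rfl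
  have hsP : s ^ 2 ^ f = 1 := pow_eq_one_of_geom_sum s _ hdef
  have hsu : IsUnit s := IsUnit.of_pow_eq_one hsP (by positivity)
  -- the pairing
  choose c hc using hscal
  have hne1 : (1 : Module.End K W) ≠ 0 := one_ne_zero
  have hscalar : ∀ x y a, ρ a * ρ ⁅x, y⁆ = ρ ⁅x, y⁆ * ρ a := fun x y a => by
    rw [hc, mul_smul_comm, smul_mul_assoc, mul_one, one_mul]
  have hcomM : ∀ x y, ⁅x, y⁆ ∈ M := fun x y => mem_radical.mpr (hscalar x y)
  haveI hMn : M.Normal := ⟨fun x hx g => by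
    rw [show g * x * g⁻¹ = ⁅g, x⁆ * x by rw [commutatorElement_def]; group]
    exact mul_mem (hcomM g x) hx⟩
  have hceq : ∀ {a : K} {x y : C}, ρ ⁅x, y⁆ = a • (1 : Module.End K W) → c x y = a :=
    fun h => smul_left_injective K hne1 ((hc _ _).symm.trans h)
  have hcl : ∀ x x' y : C, c (x * x') y = c x y * c x' y := fun x x' y => hceq (by
    rw [show ⁅x * x', y⁆ = x * ⁅x', y⁆ * x⁻¹ * ⁅x, y⁆ by simp only [commutatorElement_def]; group,
      map_mul, map_mul, map_mul, hscalar, mul_assoc (ρ ⁅x', y⁆), ← map_mul, mul_inv_cancel,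
      map_one, mul_one, hc, hc, smul_mul_assoc, one_mul, smul_smul, mul_comm])
  have hc1 : ∀ y : C, c 1 y = 1 := fun y =>
    hceq (by rw [commutatorElement_one_left, map_one, one_smul])
  have hcinv : ∀ x y : C, c y x * c x y = 1 := fun x y => by
    apply smul_left_injective K hne1
    show (c y x * c x y) • (1 : Module.End K W) = (1 : K) • 1
    rw [← smul_smul, ← hc x y, ← one_mul (ρ ⁅x, y⁆), ← smul_mul_assoc, ← hc y x, ← map_mul,
      ← commutatorElement_inv x y, inv_mul_cancel, map_one, one_smul]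
  have hcM : ∀ x : C, x ∈ M ↔ ∀ y, c x y = 1 := fun x => by
    rw [hM, mem_radical]
    refine forall_congr' fun y => ⟨fun h => hceq ?_, fun h => ?_⟩
    · rw [map_commutator_eq_one h.symm, one_smul]
    · exact (commute_of_map_commutator (by rw [hc, h, one_smul])).symm
  have hcinvl : ∀ x y : C, c x⁻¹ y * c x y = 1 := fun x y => by
    rw [← hcl, inv_mul_cancel, hc1]
  have hcsq : ∀ x y : C, c x y * c x y = 1 → c x y = 1 := by
    intro x y h
    have hl : ∀ l : ℕ, c (x ^ l) y = c x y ^ l := by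
      intro l
      induction l with
      | zero => rw [pow_zero, pow_zero, hc1]
      | succ l ih => rw [pow_succ, hcl, ih, pow_succ]
    have h3 : c x y ^ Nat.card C = 1 := by rw [← hl, pow_card_eq_one', hc1]
    obtain ⟨t, ht⟩ := hodd
    rwa [ht, pow_succ, pow_mul, sq, h, one_pow, one_mul] at h3
  have hθl : ∀ l x y, c ((θ ^ l) x) ((θ ^ l) y) = c x y := by
    intro l
    induction l with
    | zero => intro x y; rfl
    | succ l ih =>
      intro x y
      rw [pow_succ', MulAut.mul_apply, MulAut.mul_apply, ← ih x y]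
      exact hceq (by rw [← map_commutatorElement, hθcom, hc])
  have hθMi : ∀ x, θ x ∈ M ↔ x ∈ M := by
    intro x
    rw [hcM, hcM]
    refine ⟨fun h y => ?_, fun h y => ?_⟩
    · have := hθl 1 x y
      rw [pow_one, h] at this
      exact this.symm
    · obtain ⟨y', rfl⟩ := θ.surjective y
      have := hθl 1 x y'
      rw [pow_one] at this
      rw [this, h]
  -- the inverted part and its orthogonality to the fixed part
  have hθR : ∀ x, θ x ∈ R₂ ↔ x ∈ R₂ := by
    intro x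
    rw [hR₂, hR₂, ← hθMi (x * τ x), map_mul]
    rw [show θ (τ x) = τ (θ x) by rw [hτ, ← MulAut.mul_apply, ← MulAut.mul_apply, ← pow_succ',
      pow_succ]]
  have horth : ∀ y w, y⁻¹ * τ y ∈ M → w ∈ R₂ → c y w = 1 := by
    intro y w hy hw
    refine hcsq _ _ ?_
    have e1 : c (τ y) (τ w) = c y (τ w) := by
      conv_lhs => rw [show τ y = y * (y⁻¹ * τ y) by group]
      rw [hcl, (hcM _).mp hy, mul_one]
    have e2 : c (τ w) y * c w y = 1 := by
      have h := (hcM _).mp ((hR₂ w).mp hw) y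
      rwa [hcl, mul_comm] at h
    have e3 : c (τ y) (τ w) = c y w := hθl _ y w
    rw [e1] at e3
    calc c y w * c y w = (c y (τ w) * c (τ w) y) * (c y w * c w y) := by
          rw [e3]
          calc c y w * c y w = c y w * c y w * (c (τ w) y * c w y) := by rw [e2, mul_one]
            _ = _ := by ring
      _ = 1 := by rw [hcinv (τ w) y, hcinv w y, one_mul]
  have hnd : ∀ w ∈ R₂, (∀ y ∈ R₂, c y w = 1) → w ∈ M := by
    intro w hw h
    refine (hcM w).mpr fun x => ?_
    have h1 : c (x * τ x) w = 1 := by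
      refine horth _ _ ?_ hw
      rw [map_mul, hττ, show (x * τ x)⁻¹ * (τ x * x) = ⁅(τ x)⁻¹, x⁻¹⁆ by
        rw [commutatorElement_def]; group]
      exact hcomM _ _
    have h2 : c (x * (τ x)⁻¹) w = 1 := by
      refine h _ ((hR₂ _).mpr ?_)
      rw [map_mul, map_inv, hττ, show x * (τ x)⁻¹ * (τ x * x⁻¹) = 1 by group]
      exact one_mem _
    rw [hcl] at h1 h2
    have h3 : c x w * c x w = 1 := by
      calc c x w * c x w = c x w * c x w * (c (τ x)⁻¹ w * c (τ x) w) := by rw [hcinvl, mul_one]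
        _ = c x w * c (τ x) w * (c x w * c (τ x)⁻¹ w) := by ring
        _ = 1 := by rw [h1, h2, one_mul]
    simpa [hcsq x w h3] using hcinv x w
  -- the index computed in an invariant subspace
  set M₂ := M.subgroupOf R₂ with hM₂
  haveI : M₂.Normal := hMn.subgroupOf R₂
  have hidx' : M₂.index = r ^ 2 := hidx
  have hoddR : Odd (Nat.card R₂) := hodd.of_dvd_nat (Subgroup.card_subgroup_dvd_card R₂)
  have hM₂top : M₂ ≠ ⊤ := by
    intro h
    rw [h, Subgroup.index_top] at hidx'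
    have := pow_le_pow_left' hr 2
    omega
  have key : ∀ {S : Submodule K W}, S ≠ ⊥ → ∀ (hSinv : ∀ a : R₂, ∀ x ∈ S, ρ a x ∈ S)
      (d : ℕ) {g : ℕ}, 1 ≤ g → d * 2 ^ g = 2 ^ f → d * 2 ^ (g - 1) = 2 ^ (f - 1) →
      (∀ x ∈ S, (s ^ d) x ∈ S) →
      (∀ x ∈ S, ∑ l ∈ Finset.range (2 ^ g), ((s ^ d) ^ l) x = 0) →
      r ^ 2 = (2 ^ g - 1) ^ 2 := by
    intro S hS hSinv d g hg hd hd' hSs hSdef
    haveI : Nontrivial S := Submodule.nontrivial_iff_ne_bot.mpr hS
    let ρS : R₂ →* Module.End K S := subRep (ρ.comp R₂.subtype) S hSinv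
    let θS : MulAut R₂ := restrictAut θ R₂ hθR ^ d
    have hθS : ∀ x : R₂, ((θS x : R₂) : C) = (θ ^ d) x := restrictAut_pow θ R₂ hθR d
    have hθSl : ∀ (l : ℕ) (x : R₂), (((θS ^ l) x : R₂) : C) = (θ ^ (d * l)) x := fun l x => by
      rw [show θS ^ l = restrictAut θ R₂ hθR ^ (d * l) from (pow_mul _ _ _).symm, restrictAut_pow]
    have hθMl : ∀ l : ℕ, ∀ x ∈ M, (θ ^ l) x ∈ M ∧ ρ ((θ ^ l) x) = ρ x := by
      intro l
      induction l with
      | zero => exact fun x hx => ⟨hx, rfl⟩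
      | succ l ih =>
        intro x hx
        rw [pow_succ', MulAut.mul_apply]
        exact ⟨(hθMi _).mpr (ih x hx).1, (hMθ _ (ih x hx).1).trans (ih x hx).2⟩
    rw [← hidx']
    refine deficient_index hoddR M₂ hM₂top θS hg ?_ ?_ ?_ ρS ?_ ?_
      (fun x y => hcomM (x : C) y) ?_ ((s ^ d).restrict hSs) ?_ ?_
    · refine MulEquiv.ext fun x => Subtype.ext ?_
      rw [hθSl, hd, hθ]; rfl
    · intro x hx
      rw [hM₂, Subgroup.mem_subgroupOf, hθS]
      exact (hθMl d x hx).1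
    · intro x
      rw [hM₂, Subgroup.mem_subgroupOf, Subgroup.coe_mul, hθSl, hd']
      exact (hR₂ x).mp x.2
    · intro x hx
      obtain ⟨e, he⟩ := hMscal (x : C) hx
      exact ⟨e, LinearMap.ext fun y => Subtype.ext (LinearMap.congr_fun he (y : W))⟩
    · intro x hx
      refine LinearMap.ext fun y => Subtype.ext ?_
      show ρ ((θS x : R₂) : C) (y : W) = ρ (x : C) (y : W)
      rw [hθS, (hθMl d x hx).2]
    · intro w hw
      refine Subgroup.mem_subgroupOf.mpr (hnd w w.2 fun y hy => ?_)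
      obtain ⟨x, hx⟩ := exists_ne (0 : S)
      have h1 : ρ ⁅y, (w : C)⁆ (x : W) = (x : W) :=
        congrArg Subtype.val (LinearMap.congr_fun (hw ⟨y, hy⟩) x)
      rw [hc, LinearMap.smul_apply, Module.End.one_apply] at h1
      exact smul_left_injective K (fun h0 => hx (Subtype.ext h0))
        (h1.trans (one_smul K (x : W)).symm)
    · intro a
      refine LinearMap.ext fun x => Subtype.ext ?_
      show (s ^ d) (ρ (a : C) x) = ρ ((θS a : R₂) : C) ((s ^ d) x)
      rw [hθS, ← Module.End.mul_apply, pow_intertwine hs, Module.End.mul_apply]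
    · refine LinearMap.ext fun x => Subtype.ext ?_
      rw [LinearMap.sum_apply, Submodule.coe_sum]
      exact (Finset.sum_congr rfl fun l _ => restrict_pow_coe hSs l x).trans (hSdef x x.2)
  have hinj : ∀ {a b : ℕ}, (2 ^ a - 1) ^ 2 = (2 ^ b - 1) ^ 2 → a = b := fun {a b} h => by
    have h1 : 2 ^ a - 1 = 2 ^ b - 1 := Nat.pow_left_injective two_ne_zero h
    have := Nat.one_le_two_pow (n := a)
    have := Nat.one_le_two_pow (n := b)
    exact Nat.pow_right_injective (le_refl 2) (show 2 ^ a = 2 ^ b by omega)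
  have hr' : r = 2 ^ k - 1 := by omega
  obtain rfl : f = k := by
    have h := key (S := ⊤) top_ne_bot (fun _ _ _ => trivial) 1 hf (one_mul _) (one_mul _)
      (fun _ _ => trivial)
      (fun x _ => by simp only [pow_one, ← LinearMap.sum_apply, hdef, LinearMap.zero_apply])
    rw [hr'] at h
    exact (hinj h).symm
  refine ⟨rfl, fun y hy => ?_⟩
  suffices h : ρ (θ y) = ρ y by
    refine mem_radical.mpr fun a => ?_
    rw [map_mul, h, ← map_mul ρ y⁻¹ y, inv_mul_cancel, map_one, mul_one, one_mul]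
  -- otherwise a fixed vector of the twist would give a shorter deficient twist on the plane
  by_contra hne
  set t := s ^ (2 ^ f - 1) with ht
  have hts : t * s = 1 := by rw [ht, ← pow_succ, Nat.sub_add_cancel Nat.one_le_two_pow, hsP]
  have hst : s * t = 1 := by rw [ht, ← pow_succ', Nat.sub_add_cancel Nat.one_le_two_pow, hsP]
  let Φ : Module.End K (Module.End K W) := LinearMap.mulLeft K s * LinearMap.mulRight K t
  have hΦ : ∀ a, Φ a = s * (a * t) := fun a => rfl
  let D : ℕ → Module.End K W := fun n => ((Φ - 1) ^ n) (ρ y)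
  have hDs : ∀ n, D (n + 1) = s * (D n * t) - D n := fun n => by
    simp only [D, pow_succ', Module.End.mul_apply, LinearMap.sub_apply, Module.End.one_apply, hΦ]
  have hΦl : ∀ l : ℕ, (Φ ^ l) (ρ y) = ρ ((θ ^ l) y) := by
    intro l
    induction l with
    | zero => rfl
    | succ l ih =>
      rw [pow_succ', Module.End.mul_apply, ih, hΦ, ← mul_assoc, hs, mul_assoc, hst, mul_one,
        pow_succ', MulAut.mul_apply]
  have hDP : D (2 ^ f) = 0 := by
    haveI : CharP (Module.End K (Module.End K W)) 2 := charP_of_injective_algebraMap' K 2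
    show ((Φ - (1 : Module.End K (Module.End K W))) ^ 2 ^ f) (ρ y) = 0
    rw [sub_pow_char_pow_of_commute 2 f (Commute.one_right Φ), one_pow, LinearMap.sub_apply, hΦl, hθ,
      Module.End.one_apply]
    exact sub_self _
  have hD1 : D 1 ≠ 0 := by
    intro h
    rw [hDs] at h
    have h0 : D 0 = ρ y := rfl
    rw [h0, ← mul_assoc, hs, mul_assoc, hst, mul_one, sub_eq_zero] at h
    exact hne h
  have hDcomm : ∀ n, ∀ w ∈ R₂, Commute (D n) (ρ w) := by
    intro n
    induction n with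
    | zero =>
      intro w hw
      exact commute_of_map_commutator (by rw [hc, horth y w hy hw, one_smul])
    | succ n ih =>
      intro w hw
      rw [hDs]
      refine Commute.sub_left ?_ (ih w hw)
      obtain ⟨w', rfl⟩ := θ.surjective w
      refine hsu.mul_right_cancel ?_
      calc s * (D n * t) * ρ (θ w') * s = s * (D n * (t * (ρ (θ w') * s))) := by
            simp only [mul_assoc]
        _ = s * (D n * ρ w') := by rw [← hs, ← mul_assoc t, hts, one_mul]
        _ = s * (ρ w' * D n) := by rw [(ih w' ((hθR w').mp hw)).eq]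
        _ = ρ (θ w') * (s * (D n * t)) * s := by
            simp only [← mul_assoc]
            rw [← hs, mul_assoc (s * ρ w' * D n), hts, mul_one]
  obtain ⟨n, hn1, hn2⟩ : ∃ n, D (n + 1) ≠ 0 ∧ D (n + 2) = 0 := by
    by_contra hcon
    push Not at hcon
    have : ∀ n, D (n + 1) ≠ 0 := fun n => by
      induction n with
      | zero => exact hD1
      | succ n ih => exact hcon n ih
    obtain ⟨N, hN⟩ : ∃ N, 2 ^ f = N + 1 := ⟨2 ^ f - 1, by
      have := Nat.one_le_two_pow (n := f); omega⟩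
    exact this N (hN ▸ hDP)
  set a := D n with ha
  set b := D (n + 1) with hb
  have hsa : s * a = (a + b) * s := by
    rw [hb, hDs, ← ha, add_sub_cancel, mul_assoc, mul_assoc, hts, mul_one]
  have hsb : s * b = b * s := by
    have h1 : s * (b * t) = b := sub_eq_zero.mp ((hDs (n + 1)).symm.trans hn2)
    conv_rhs => rw [← h1]
    rw [mul_assoc, mul_assoc, hts, mul_one]
  have hpow : ∀ l : ℕ, s ^ l * a = a * s ^ l + (l : K) • (b * s ^ l) := by
    intro l
    induction l with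
    | zero => simp
    | succ l ih =>
      rw [pow_succ', mul_assoc, ih, mul_add, mul_smul_comm, ← mul_assoc, ← mul_assoc, hsa, hsb,
        Nat.cast_succ, add_smul, one_smul, add_mul, add_mul, mul_assoc, mul_assoc]
      abel
  have hb0 : b * ∑ i ∈ Finset.range (2 ^ (f - 1)), (s * s) ^ i = 0 := by
    have h0 : (∑ l ∈ Finset.range (2 ^ f), (s ^ l * a)) = 0 := by
      rw [← Finset.sum_mul, hdef, zero_mul]
    simp only [hpow] at h0
    rw [Finset.sum_add_distrib, ← Finset.mul_sum, hdef, mul_zero, zero_add,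
      show 2 ^ f = 2 * 2 ^ (f - 1) by rw [← pow_succ', Nat.sub_add_cancel hf],
      sum_range_two_mul, ← Finset.mul_sum] at h0
    refine hsu.mul_left_inj.mp ?_
    rw [zero_mul, mul_assoc, Finset.sum_mul]
    refine Eq.trans ?_ h0
    congr 1
    exact Finset.sum_congr rfl fun i _ => by rw [← pow_two, ← pow_mul, ← pow_succ]
  have hS : LinearMap.range b ≠ ⊥ := fun h => hn1 (LinearMap.range_eq_bot.mp h)
  have hbR : ∀ w : R₂, ∀ x ∈ LinearMap.range b, ρ w x ∈ LinearMap.range b := by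
    rintro w _ ⟨x, rfl⟩
    exact ⟨ρ (w : C) x, LinearMap.congr_fun (hDcomm (n + 1) w w.2).eq x⟩
  have h2 := key hS hbR 2 (g := f - 1) (by omega)
    (by rw [← pow_succ', Nat.sub_add_cancel hf])
    (by rw [← pow_succ', Nat.sub_add_cancel (by omega : 1 ≤ f - 1)])
    (by
      rintro _ ⟨x, rfl⟩
      refine ⟨(s ^ 2) x, ?_⟩
      exact (LinearMap.congr_fun ((show Commute s b from hsb).pow_left 2).eq x).symm)
    (by
      rintro _ ⟨x, rfl⟩
      have hcm : Commute (∑ i ∈ Finset.range (2 ^ (f - 1)), (s ^ 2) ^ i) b :=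
        Commute.sum_left _ _ _ fun i _ => ((show Commute s b from hsb).pow_left 2).pow_left i
      rw [← LinearMap.sum_apply, ← Module.End.mul_apply, hcm.eq, sq, hb0]
      rfl)
  rw [hr'] at h2
  have := hinj h2
  omega


set_option linter.unusedVariables false in
/-- The twist inverting a plane centralises what its involution centralises. -/
theorem fix_mem {G : Type u} [Group G] [Finite G] {K : Type v} [Field K] [CharP K 2]
    [IsAlgClosed K] {W : Type w} [AddCommGroup W] [Module K W] [FiniteDimensional K W]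
    (ρ : G →* Module.End K W) {r : ℕ} [Fact r.Prime] (hr2 : r ≠ 2) (C Z : Subgroup G)
    (hC : IsPGroup r C) (z : G) (m : ℕ) (hz : z ^ 2 ^ (m + 1) = 1)
    (hzC : z ∈ Subgroup.normalizer (C : Set G)) (hzZ : z ∈ Subgroup.normalizer (Z : Set G))
    (hdef : ∑ i ∈ Finset.range (2 ^ (m + 1)), ρ z ^ i = 0)
    (hcom : ∀ x ∈ C, ∀ y ∈ C, ⁅x, y⁆ ∈ Z) (hZC : Z ≤ C)
    (hZc : Z ≤ Subgroup.centralizer (C : Set G)) (hpow : ∀ x ∈ C, x ^ r ∈ Z)
    (μ : G → K) {v : W} (hv : v ≠ 0) (hμ : ∀ c ∈ Z, ρ c v = μ c • v)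
    (M : Subgroup G) (hMC : M ≤ C) (hM : ∀ x ∈ C, x ∈ M ↔ ∀ y ∈ C, μ ⁅x, y⁆ = 1)
    {j k : ℕ} (hk : 2 ≤ k) (hrk : r + 1 = 2 ^ k) (hjk : j + (k - 1) = m)
    (hμj : ∀ c ∈ Z, μ (z ^ 2 ^ j * c * (z ^ 2 ^ j)⁻¹) = μ c)
    (R₂ : Subgroup G) (hR₂C : R₂ ≤ C)
    (hR₂ : ∀ x ∈ C, x ∈ R₂ ↔ x * (z ^ 2 ^ m * x * (z ^ 2 ^ m)⁻¹) ∈ M)
    (hidx : M.relIndex R₂ = r ^ 2) :
    ∀ x ∈ C, x⁻¹ * (z ^ 2 ^ m * x * (z ^ 2 ^ m)⁻¹) ∈ M →
      x⁻¹ * (z ^ 2 ^ j * x * (z ^ 2 ^ j)⁻¹) ∈ M := by
  classical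
  -- the eigenspace of the centre
  let F : Z → Module.End K W := fun c => ρ c
  let θZ : MulAut Z := subConj Z z hzZ
  have hEig : Eig F (fun c => μ c) v := fun c => hμ c c.2
  obtain ⟨i₁, hi₁, hfix₁, hdef₁⟩ := exists_period (F := F) (θ := θZ.toEquiv) (s := ρ z)
    (fun a => rep_intertwine ρ z a) m
    (fun a => by
      show (⇑θZ)^[_] a = a
      rw [aut_iterate, subConj_pow_eq_one Z hzZ hz]; rfl) hdef hEig hv
  set U := eigSpace F (fun c : Z => μ c) with hU
  haveI : Nontrivial U := Submodule.nontrivial_iff_ne_bot.mpr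
    ((Submodule.ne_bot_iff _).mpr ⟨v, mem_eigSpace.mpr hEig, hv⟩)
  have hUC : ∀ a : C, ∀ y ∈ U, ρ a y ∈ U := by
    intro a y hy
    rw [hU, mem_eigSpace] at hy ⊢
    intro c
    show ρ (c : G) (ρ (a : G) y) = μ c • ρ (a : G) y
    rw [← Module.End.mul_apply, ← map_mul, ← Subgroup.mem_centralizer_iff.mp (hZc c.2) a a.2,
      map_mul, Module.End.mul_apply, show ρ (c : G) y = μ c • y from hy c, map_smul]
  set u := z ^ 2 ^ i₁ with hu
  have hfixμ : ∀ c ∈ Z, μ (u * c * u⁻¹) = μ c := by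
    intro c hc
    have h1 := tw_iterate_apply θZ.toEquiv (2 ^ i₁) (fun c : Z => μ c) ⟨c, hc⟩
    rw [hfix₁] at h1
    have h2 : (((⇑θZ)^[2 ^ i₁] ⟨c, hc⟩ : Z) : G) = u * c * u⁻¹ := by
      rw [aut_iterate, subConj_pow]
    rw [← h2]
    exact h1
  have hUu : ∀ y ∈ U, ρ u y ∈ U := by
    intro y hy
    rw [hU, mem_eigSpace] at hy ⊢
    have h1 := hy.twist_pow (θ := θZ.toEquiv) (s := ρ z) (fun a => rep_intertwine ρ z a) (2 ^ i₁)
    rwa [hfix₁, ← map_pow] at h1
  let ρU : C →* Module.End K U := subRep (ρ.comp C.subtype) U hUC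
  let sU : Module.End K U := (ρ u).restrict hUu
  have hsU : ∀ (l : ℕ) (y : U), ((sU ^ l) y : W) = (ρ u ^ l) y := by
    intro l
    induction l with
    | zero => intro y; rfl
    | succ l ih =>
      intro y
      rw [pow_succ', pow_succ', Module.End.mul_apply, Module.End.mul_apply, ← ih]
      rfl
  have hρcom : ∀ x y : C, ρU ⁅x, y⁆ = μ ⁅(x : G), (y : G)⁆ • (1 : Module.End K U) := fun x y =>
    LinearMap.ext fun a => Subtype.ext
      (mem_eigSpace.mp a.2 ⟨⁅(x : G), (y : G)⁆, hcom x x.2 y y.2⟩)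
  -- `u` normalises the radical, which is commutative on the eigenspace
  have huC : u ∈ Subgroup.normalizer (C : Set G) := pow_mem hzC _
  have huM : u ∈ Subgroup.normalizer (M : Set G) := by
    refine Subgroup.mem_normalizer_iff.mpr fun x => ?_
    have hcj : ∀ a b, ⁅u * a * u⁻¹, u * b * u⁻¹⁆ = u * ⁅a, b⁆ * u⁻¹ := fun a b => by
      simp only [commutatorElement_def]; group
    constructor
    · intro hx
      refine (hM _ (conj_mem huC (hMC hx))).mpr fun y hy => ?_
      have hy' : u⁻¹ * y * u ∈ C := by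
        have := conj_mem (inv_mem huC) hy
        rwa [inv_inv] at this
      rw [show y = u * (u⁻¹ * y * u) * u⁻¹ by group, hcj, hfixμ _ (hcom x (hMC hx) _ hy'),
        (hM x (hMC hx)).mp hx _ hy']
    · intro hx
      have hxC : x ∈ C := (Subgroup.mem_normalizer_iff.mp huC x).mpr (hMC hx)
      refine (hM x hxC).mpr fun y hy => ?_
      rw [← hfixμ _ (hcom x hxC y hy), ← hcj]
      exact (hM _ (hMC hx)).mp hx _ (conj_mem huC hy)
  let FM : M → Module.End K U := fun a => ρU ⟨a, hMC a.2⟩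
  have hMcomm : ∀ (a : M) (y : C), FM a * ρU y = ρU y * FM a := fun a y =>
    commute_of_map_commutator (by rw [hρcom, (hM a (hMC a.2)).mp a.2 y y.2, one_smul])
  obtain ⟨β, v₂, -, hv₂, hβ⟩ :=
    exists_eig_mem FM (fun a b => hMcomm a ⟨b, hMC b.2⟩) ⊤ top_ne_bot (fun _ _ _ => trivial)
  have hi : m + 1 - i₁ = (m - i₁) + 1 := by omega
  have hu1 : u ^ 2 ^ (m - i₁ + 1) = 1 := by
    rw [hu, ← pow_mul, ← pow_add, show i₁ + (m - i₁ + 1) = m + 1 by omega, hz]
  let θM : MulAut M := subConj M u huM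
  obtain ⟨i₂, hi₂, hfix₂, hdef₂⟩ := exists_period (F := FM) (θ := θM.toEquiv) (s := sU)
    (fun a => LinearMap.ext fun y => Subtype.ext (by
      show ρ u (ρ (a : G) (y : W)) = ρ (u * (a : G) * u⁻¹) (ρ u (y : W))
      rw [← Module.End.mul_apply, rep_intertwine, Module.End.mul_apply]))
    (m - i₁)
    (fun a => by
      show (⇑θM)^[_] a = a
      rw [aut_iterate, subConj_pow_eq_one M huM hu1]; rfl)
    (LinearMap.ext fun y => Subtype.ext (by
      rw [LinearMap.sum_apply, Submodule.coe_sum]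
      simp only [hsU]
      have h := hdef₁ y (mem_eigSpace.mp y.2)
      rw [hi] at h
      simpa only [hu, map_pow, LinearMap.zero_apply, ZeroMemClass.coe_zero] using h)) hβ hv₂
  -- the eigenspace of the radical
  set U₂ := eigSpace FM β with hU₂
  haveI : Nontrivial U₂ := Submodule.nontrivial_iff_ne_bot.mpr
    ((Submodule.ne_bot_iff _).mpr ⟨v₂, mem_eigSpace.mpr hβ, hv₂⟩)
  have hU₂C : ∀ a : C, ∀ y ∈ U₂, ρU a y ∈ U₂ := by
    intro a y hy
    rw [hU₂, mem_eigSpace] at hy ⊢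
    intro b
    rw [← Module.End.mul_apply, hMcomm b a, Module.End.mul_apply, hy b, map_smul]
  set c := u ^ 2 ^ i₂ with hc
  have hcC : c ∈ Subgroup.normalizer (C : Set G) := pow_mem huC _
  have hsc : ∀ y : U, ((sU ^ 2 ^ i₂) y : W) = ρ c y := fun y => by rw [hsU, ← map_pow]
  have hU₂s : ∀ y ∈ U₂, (sU ^ 2 ^ i₂) y ∈ U₂ := by
    intro y hy
    rw [hU₂, mem_eigSpace] at hy ⊢
    have h1 := hy.twist_pow (θ := θM.toEquiv) (s := sU)
      (fun a => LinearMap.ext fun y => Subtype.ext (by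
        show ρ u (ρ (a : G) (y : W)) = ρ (u * (a : G) * u⁻¹) (ρ u (y : W))
        rw [← Module.End.mul_apply, rep_intertwine, Module.End.mul_apply])) (2 ^ i₂)
    rwa [hfix₂] at h1
  have hfixβ : ∀ a : M, ∀ h : c * a * c⁻¹ ∈ M, β ⟨c * a * c⁻¹, h⟩ = β a := by
    intro a h
    have h1 := tw_iterate_apply θM.toEquiv (2 ^ i₂) β a
    rw [hfix₂] at h1
    rw [← h1]
    congr 1
    refine Subtype.ext ?_
    show c * a * c⁻¹ = (((⇑θM)^[2 ^ i₂] a : M) : G)
    rw [aut_iterate, subConj_pow]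
  have hcM : ∀ {a : G}, a ∈ M → c * a * c⁻¹ ∈ M := fun {a} ha => conj_mem (pow_mem huM _) ha
  have hfixμc : ∀ a ∈ Z, μ (c * a * c⁻¹) = μ a := by
    have key : ∀ n : ℕ, ∀ a ∈ Z, μ (u ^ n * a * (u ^ n)⁻¹) = μ a := by
      intro n
      induction n with
      | zero => simp
      | succ n ih =>
        intro a ha
        rw [pow_succ, show u ^ n * u * a * (u ^ n * u)⁻¹ = u ^ n * (u * a * u⁻¹) * (u ^ n)⁻¹ by
          group, ih _ (conj_mem (pow_mem hzZ _) ha), hfixμ a ha]
    exact key _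
  let ρ₂ : C →* Module.End K U₂ := subRep ρU U₂ hU₂C
  let θ : MulAut C := subConj C c hcC
  have hρ₂com : ∀ x y : C, ρ₂ ⁅x, y⁆ = μ ⁅(x : G), (y : G)⁆ • (1 : Module.End K U₂) := fun x y =>
    LinearMap.ext fun a => Subtype.ext (LinearMap.congr_fun (hρcom x y) (a : U))
  have hrad : ∀ x : C, x ∈ radical ρ₂ ↔ (x : G) ∈ M := by
    intro x
    rw [mem_radical, hM x x.2]
    refine ⟨fun h y hy => ?_, fun h y => ?_⟩
    · have h1 : ρ₂ ⁅x, ⟨y, hy⟩⁆ = 1 := map_commutator_eq_one (h ⟨y, hy⟩).symm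
      rw [hρ₂com] at h1
      obtain ⟨a, ha⟩ := exists_ne (0 : U₂)
      have h2 : μ ⁅(x : G), y⁆ • a = (1 : K) • a :=
        (LinearMap.congr_fun h1 a).trans (one_smul K a).symm
      exact smul_left_injective K ha h2
    · exact (commute_of_map_commutator (by rw [hρ₂com, h y y.2, one_smul])).symm
  have hMβ : ∀ x : C, ∀ h : (x : G) ∈ M, ρ₂ x = β ⟨x, h⟩ • (1 : Module.End K U₂) := fun x h =>
    LinearMap.ext fun a => Subtype.ext (mem_eigSpace.mp a.2 ⟨(x : G), h⟩)
  set f := m - i₁ + 1 - i₂ with hf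
  have hf1 : 1 ≤ f := by omega
  have hcτ : c ^ 2 ^ (f - 1) = z ^ 2 ^ m := by
    rw [hc, hu, ← pow_mul, ← pow_mul, ← pow_add, ← pow_add,
      show i₁ + (i₂ + (f - 1)) = m by omega]
  have hc1 : c ^ 2 ^ f = 1 := by
    rw [show f = f - 1 + 1 by omega, pow_succ, pow_mul, hcτ, ← pow_mul, ← pow_succ, hz]
  have hτ : ∀ x : C, (((θ ^ 2 ^ (f - 1)) x : C) : G) = z ^ 2 ^ m * x * (z ^ 2 ^ m)⁻¹ := fun x => by
    rw [subConj_pow, hcτ]
  have hodd : Odd (Nat.card C) := by
    obtain ⟨t, ht⟩ := hC.exists_card_eq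
    rw [ht]
    exact ((Fact.out : r.Prime).odd_of_ne_two hr2).pow
  obtain ⟨hfk, hkey⟩ := fix_core hodd θ hf1 (subConj_pow_eq_one C hcC hc1) ρ₂
    ((sU ^ 2 ^ i₂).restrict hU₂s)
    (fun a => LinearMap.ext fun y => Subtype.ext (Subtype.ext (by
      show ((sU ^ 2 ^ i₂) (ρU a (y : U)) : W) =
        ρ (c * (a : G) * c⁻¹) ((sU ^ 2 ^ i₂) (y : U) : W)
      rw [hsc, hsc]
      show ρ c (ρ (a : G) ((y : U) : W)) = _
      rw [← Module.End.mul_apply, rep_intertwine, Module.End.mul_apply])))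
    (LinearMap.ext fun y => Subtype.ext (by
      rw [LinearMap.sum_apply, Submodule.coe_sum]
      exact (Finset.sum_congr rfl fun l _ => restrict_pow_coe hU₂s l y).trans
        (hdef₂ y (mem_eigSpace.mp y.2))))
    (fun x y => ⟨_, hρ₂com x y⟩)
    (fun x y => by
      rw [map_commutatorElement, hρ₂com, hρ₂com]
      congr 1
      show μ ⁅c * (x : G) * c⁻¹, c * (y : G) * c⁻¹⁆ = μ ⁅(x : G), (y : G)⁆
      rw [show ⁅c * (x : G) * c⁻¹, c * (y : G) * c⁻¹⁆ = c * ⁅(x : G), (y : G)⁆ * c⁻¹ by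
        simp only [commutatorElement_def]; group]
      exact hfixμc _ (hcom x x.2 y y.2))
    (fun x hx => ⟨_, hMβ x ((hrad x).mp hx)⟩)
    (fun x hx => by
      rw [hMβ x ((hrad x).mp hx), hMβ (θ x) (hcM ((hrad x).mp hx))]
      congr 1
      exact hfixβ ⟨(x : G), (hrad x).mp hx⟩ _)
    (Fact.out : r.Prime).two_le hk hrk (R₂.subgroupOf C)
    (fun x => by
      rw [Subgroup.mem_subgroupOf, hR₂ x x.2, hrad, Subgroup.coe_mul, hτ])
    (by
      rw [show radical ρ₂ = M.subgroupOf C from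
          SetLike.ext fun x => (hrad x).trans Subgroup.mem_subgroupOf.symm,
        ← Subgroup.relIndex_map_map_of_injective _ _ C.subtype_injective,
        Subgroup.map_subgroupOf_eq_of_le hMC, Subgroup.map_subgroupOf_eq_of_le hR₂C, hidx])
  have hcj : c = z ^ 2 ^ j := by
    rw [hc, hu, ← pow_mul, ← pow_add, show i₁ + i₂ = j by omega]
  intro x hx hxM
  have h1 := (hrad _).mp (hkey ⟨x, hx⟩ ((hrad _).mpr (by
    rwa [Subgroup.coe_mul, Subgroup.coe_inv, hτ])))
  rw [Subgroup.coe_mul, Subgroup.coe_inv] at h1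
  rw [← hcj]
  exact h1

end H58.Bryu
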