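import Cfsg.Agent.H32.HHSection
import Mathlib.LinearAlgebra.FiniteDimensional.Basic

/-!
The deficient representation on the sections of a chain inside a normal `2`-subgroup.
-/

set_option autoImplicit false
set_option linter.style.haveILetI false

namespace H58.Bryu

open scoped commutatorElement

universe u

variable {G : Type u} [Group G]

/-- The lower central series of a subgroup, inside the group. -/
abbrev lcs (T : Subgroup G) (l : ℕ) : Subgroup G := T.lowerCentralSeries l

instance lcs_normal (T : Subgroup G) [T.Normal] : ∀ l, (lcs T l).Normal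
  | 0 => (inferInstance : T.Normal)
  | l + 1 => by
    haveI := lcs_normal T l
    show (⁅lcs T l, T⁆ : Subgroup G).Normal
    infer_instance

theorem exists_lcs_eq_bot [Finite G] (T : Subgroup G) (hT : IsPGroup 2 T) :
    ∃ c, lcs T c = ⊥ := by
  haveI : Fact (Nat.Prime 2) := ⟨Nat.prime_two⟩
  exact (Subgroup.isNilpotent_iff_lowerCentralSeries T).1 hT.isNilpotent

/-- A coprime element centralising a section and the part below it centralises the whole. -/
theorem commute_of_section {g y x : G} (hodd : Odd (orderOf g)) (hx : ∃ c, x ^ 2 ^ c = 1)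
    (hgx : Commute g x) (h : g * y * g⁻¹ = y * x) : Commute g y := by
  have hpow : ∀ n : ℕ, g ^ n * y * (g ^ n)⁻¹ = y * x ^ n := by
    intro n
    induction n with
    | zero => simp
    | succ n ih =>
      calc g ^ (n + 1) * y * (g ^ (n + 1))⁻¹ = g * (g ^ n * y * (g ^ n)⁻¹) * g⁻¹ := by
            rw [pow_succ', mul_inv_rev]; group
        _ = (g * y * g⁻¹) * (g * x ^ n * g⁻¹) := by rw [ih]; group
        _ = y * x ^ (n + 1) := by
            rw [h, (hgx.pow_right n).eq, mul_inv_cancel_right, mul_assoc, ← pow_succ']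
  have h1 := hpow (orderOf g)
  rw [pow_orderOf_eq_one, one_mul, inv_one, mul_one, eq_comm, mul_eq_left] at h1
  obtain ⟨c, hc⟩ := hx
  have hcop : (orderOf g).Coprime (2 ^ c) := (Nat.coprime_two_right.2 hodd).pow_right c
  have hx1 : x = 1 := by
    rw [← orderOf_eq_one_iff, ← Nat.dvd_one, ← hcop]
    exact Nat.dvd_gcd (orderOf_dvd_of_pow_eq_one h1) (orderOf_dvd_of_pow_eq_one hc)
  rw [hx1, mul_one] at h
  exact mul_inv_eq_iff_eq_mul.1 h

/-- One section. -/
theorem exists_section [Finite G] (Y X : Subgroup G) [Y.Normal] [X.Normal]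
    (hsq : ∀ t ∈ Y, t ^ 2 ∈ X) (N : ℕ) :
    ∃ (n : ℕ) (ρ : G →* Module.End (AlgebraicClosure (ZMod 2))
        (Fin n → AlgebraicClosure (ZMod 2))),
      (∀ g, (∀ y ∈ Y, ⁅g, y⁆ ∈ X) → ρ g = 1) ∧
      (∀ g, ρ g = 1 → ∀ y ∈ Y, ⁅g, y⁆ ∈ X) ∧
      ∀ z, (∀ t ∈ Y, (t * z) ^ N * (z ^ N)⁻¹ ∈ X) → ∑ i ∈ Finset.range N, ρ z ^ i = 0 := by
  classical
  haveI := Fact.mk Nat.prime_two
  set π := QuotientGroup.mk' X with hπ
  set V := Y.map π with hV
  haveI : V.Normal := (inferInstance : Y.Normal).map π (QuotientGroup.mk'_surjective _)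
  have hone : ∀ x : G, π x = 1 ↔ x ∈ X := fun x => QuotientGroup.eq_one_iff x
  have hV2 : ∀ v ∈ V, v ^ 2 = 1 := by
    rintro _ ⟨t, ht, rfl⟩
    rw [← map_pow, hone]
    exact hsq t ht
  have hVe : Cfsg.IsElementaryAbelian 2 V := by
    refine ⟨⟨⟨fun a b => Subtype.ext ?_⟩⟩, hV2⟩
    have inv : ∀ v ∈ V, v⁻¹ = v := fun v hv =>
      inv_eq_of_mul_eq_one_right (by rw [← pow_two]; exact hV2 v hv)
    show (a : G ⧸ X) * b = b * a
    rw [← inv _ (mul_mem a.2 b.2), mul_inv_rev, inv _ a.2, inv _ b.2]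
  obtain ⟨n, ρ₀, hinj, hsum⟩ := H32.HHS.exists_rep_sum V hVe
  let ρ : G →* Module.End (AlgebraicClosure (ZMod 2)) (Fin n → AlgebraicClosure (ZMod 2)) :=
    ρ₀.comp ((QuotientGroup.mk' (Subgroup.centralizer (V : Set (G ⧸ X)))).comp π)
  have hker : ∀ g, ρ g = 1 ↔ ∀ y ∈ Y, ⁅g, y⁆ ∈ X := by
    intro g
    have h1 : ρ g = 1 ↔ π g ∈ Subgroup.centralizer (V : Set (G ⧸ X)) := by
      rw [← QuotientGroup.eq_one_iff]
      exact map_eq_one_iff ρ₀ hinj
    rw [h1, Subgroup.mem_centralizer_iff]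
    constructor
    · intro h y hy
      rw [← hone, map_commutatorElement, commutatorElement_eq_one_iff_mul_comm]
      exact (h _ ⟨y, hy, rfl⟩).symm
    · rintro h _ ⟨y, hy, rfl⟩
      have := (hone _).2 (h y hy)
      rw [map_commutatorElement, commutatorElement_eq_one_iff_mul_comm] at this
      exact this.symm
  refine ⟨n, ρ, fun g h => (hker g).2 h, fun g h => (hker g).1 h, fun z hz => ?_⟩
  by_contra hne
  obtain ⟨v, ⟨t, ht, rfl⟩, hvne⟩ := hsum (π z) N hne
  apply hvne
  rw [← map_mul, ← map_pow, ← map_pow, ← mul_inv_eq_one, ← map_inv, ← map_mul, hone]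
  exact hz t ht

/-- The direct sum of finitely many representations, on coordinates. -/
theorem exists_sum_rep {K : Type*} [Field K] {ι : Type*} [Finite ι] (n : ι → ℕ)
    (ρ : ∀ i, G →* Module.End K (Fin (n i) → K)) :
    ∃ (m : ℕ) (σ : G →* Module.End K (Fin m → K)),
      (∀ g, σ g = 1 ↔ ∀ i, ρ i g = 1) ∧
      ∀ z N, (∀ i, ∑ j ∈ Finset.range N, ρ i z ^ j = 0) → ∑ j ∈ Finset.range N, σ z ^ j = 0 := by
  classical
  let M := ∀ i, Fin (n i) → K
  let e : M ≃ₗ[K] (Fin (Module.finrank K M) → K) := (Module.finBasis K M).equivFun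
  let τ : G →* Module.End K M :=
    { toFun := fun g => LinearMap.pi fun i => (ρ i g).comp (LinearMap.proj i)
      map_one' := LinearMap.ext fun x => funext fun i => by
        show (ρ i 1) (x i) = x i
        rw [map_one]; rfl
      map_mul' := fun g h => LinearMap.ext fun x => funext fun i => by
        show (ρ i (g * h)) (x i) = (ρ i g) ((ρ i h) (x i))
        rw [map_mul]; rfl }
  have hτpow : ∀ z (j : ℕ) (x : M) i, (τ z ^ j) x i = (ρ i z ^ j) (x i) := by
    intro z j
    induction j with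
    | zero => intro x i; simp
    | succ j ih =>
      intro x i
      rw [pow_succ', pow_succ', Module.End.mul_apply, Module.End.mul_apply, ← ih x i]
      rfl
  refine ⟨Module.finrank K M, (e.conjRingEquiv.toRingHom : Module.End K M →* _).comp τ,
    fun g => ?_, fun z N hz => ?_⟩
  · rw [MonoidHom.comp_apply]
    refine ((map_eq_one_iff e.conjRingEquiv e.conjRingEquiv.injective).trans ?_)
    constructor
    · intro h i
      refine LinearMap.ext fun v => ?_
      have := congrFun (DFunLike.congr_fun h (Pi.single i v)) i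
      have h2 : (ρ i g) ((Pi.single i v : M) i) = (Pi.single i v : M) i := this
      rw [Pi.single_eq_same] at h2
      exact h2
    · intro h
      exact LinearMap.ext fun x => funext fun i => by
        show (ρ i g) (x i) = x i
        rw [h i]; rfl
  · have h0 : ∑ j ∈ Finset.range N, τ z ^ j = 0 := by
      refine LinearMap.ext fun x => funext fun i => ?_
      rw [LinearMap.sum_apply, Finset.sum_apply, LinearMap.zero_apply, Pi.zero_apply]
      simp only [hτpow]
      rw [← LinearMap.sum_apply, hz i, LinearMap.zero_apply]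
    calc ∑ j ∈ Finset.range N, ((e.conjRingEquiv.toRingHom : Module.End K M →* _).comp τ) z ^ j
        = e.conjRingEquiv.toRingHom (∑ j ∈ Finset.range N, τ z ^ j) := by
          rw [map_sum]; simp only [map_pow]; rfl
      _ = 0 := by rw [h0, map_zero]

/-- `2`-elements act deficiently on the sections of a chain of a normal `2`-subgroup. -/
theorem exists_section_rep {G : Type u} [Group G] [Finite G] (T : Subgroup G) [T.Normal]
    (hT : IsPGroup 2 T) (N : ℕ) (A : ℕ → Subgroup G) (L : ℕ) (hA0 : A 0 = T) (hAL : A L = ⊥)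
    (hmono : ∀ k, A (k + 1) ≤ A k) (hnorm : ∀ k, (A k).Normal)
    (hsq : ∀ k, ∀ t ∈ A k, t ^ 2 ∈ A (k + 1))
    (hN : ∀ (z : G) (b : ℕ), z ^ 2 ^ b = 1 → ∀ k, ∀ t ∈ A k,
      (t * z) ^ N * (z ^ N)⁻¹ ∈ A (k + 1)) :
    ∃ (n : ℕ) (ρ : G →* Module.End (AlgebraicClosure (ZMod 2))
        (Fin n → AlgebraicClosure (ZMod 2))),
      (∀ g ∈ T, ρ g = 1) ∧ (∀ g ∈ Subgroup.centralizer (T : Set G), ρ g = 1) ∧
      (∀ g, ρ g = 1 → Odd (orderOf g) → g ∈ Subgroup.centralizer (T : Set G)) ∧
      ∀ (z : G) (b : ℕ), z ^ 2 ^ b = 1 → ∑ i ∈ Finset.range N, ρ z ^ i = 0 := by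
  classical
  have hAT : ∀ k, A k ≤ T := by
    intro k
    induction k with
    | zero => exact hA0.le
    | succ k ih => exact (hmono k).trans ih
  obtain ⟨c, hc⟩ := exists_lcs_eq_bot T hT
  -- the refined chain
  let B : ℕ → ℕ → Subgroup G := fun k l => (A k ⊓ lcs T l) ⊔ A (k + 1)
  haveI hBn : ∀ k l, (B k l).Normal := fun k l => by
    haveI := hnorm k
    haveI := hnorm (k + 1)
    show ((A k ⊓ lcs T l) ⊔ A (k + 1)).Normal
    infer_instance
  have hB0 : ∀ k, B k 0 = A k := fun k => by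
    show (A k ⊓ T) ⊔ A (k + 1) = A k
    rw [inf_eq_left.2 (hAT k), sup_eq_left.2 (hmono k)]
  have hBc : ∀ k, B k c = A (k + 1) := fun k => by
    show (A k ⊓ lcs T c) ⊔ A (k + 1) = A (k + 1)
    rw [hc, inf_bot_eq, bot_sup_eq]
  have hBle : ∀ k l, B k l ≤ A k := fun k l => sup_le inf_le_left (hmono k)
  have hBsq : ∀ k l, ∀ t ∈ B k l, t ^ 2 ∈ B k (l + 1) := fun k l t ht =>
    Subgroup.mem_sup_right (hsq k t (hBle k l ht))
  have hBT : ∀ k l, ∀ g ∈ T, ∀ y ∈ B k l, ⁅g, y⁆ ∈ B k (l + 1) := by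
    intro k l g hg
    haveI := hnorm k
    haveI := hnorm (k + 1)
    intro y hy
    rw [show B k l = (A k ⊓ lcs T l) ⊔ A (k + 1) from rfl, Subgroup.mem_sup_of_normal_right] at hy
    obtain ⟨u, hu, w, hw, rfl⟩ := hy
    have h1 : ⁅g, w⁆ ∈ A (k + 1) :=
      Subgroup.commutator_le_right ⊤ (A (k + 1)) (Subgroup.commutator_mem_commutator trivial hw)
    have h2 : ⁅g, u⁆ ∈ A k ⊓ lcs T (l + 1) := by
      refine ⟨Subgroup.commutator_le_right ⊤ (A k) (Subgroup.commutator_mem_commutator trivial hu.1),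
        ?_⟩
      show ⁅g, u⁆ ∈ (⁅lcs T l, T⁆ : Subgroup G)
      rw [Subgroup.commutator_comm]
      exact Subgroup.commutator_mem_commutator hg hu.2
    have e : ⁅g, u * w⁆ = ⁅g, u⁆ * (u * ⁅g, w⁆ * u⁻¹) := by
      simp only [commutatorElement_def]; group
    rw [e]
    exact mul_mem (Subgroup.mem_sup_left h2)
      (Subgroup.mem_sup_right ((hnorm (k + 1)).conj_mem _ h1 u))
  choose n ρ hρ1 hρ2 hρ3 using fun i : Fin L × Fin c =>
    exists_section (B i.1 i.2) (B i.1 (i.2.val + 1)) (hBsq i.1 i.2) N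
  obtain ⟨m, σ, hσ, hσsum⟩ := exists_sum_rep n ρ
  refine ⟨m, σ, fun g hg => (hσ g).2 fun i => hρ1 i g (hBT i.1 i.2 g hg),
    fun g hg => (hσ g).2 fun i => hρ1 i g fun y hy => ?_, fun g hg hodd => ?_,
    fun z b hz => hσsum z N fun i => hρ3 i z fun t ht =>
      Subgroup.mem_sup_right (hN z b hz i.1 t (hBle _ _ ht))⟩
  · rw [commutatorElement_eq_one_iff_mul_comm.2
      (Subgroup.mem_centralizer_iff.1 hg y (hAT _ (hBle _ _ hy))).symm]
    exact one_mem _
  -- coprime stability
  have key : ∀ d k, k + d = L → ∀ y ∈ A k, Commute g y := by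
    intro d
    induction d with
    | zero =>
      intro k hk y hy
      rw [show k = L from hk, hAL, Subgroup.mem_bot] at hy
      rw [hy]; exact Commute.one_right g
    | succ d ih =>
      intro k hk
      have inner : ∀ e l, l + e = c → ∀ y ∈ B k l, Commute g y := by
        intro e
        induction e with
        | zero =>
          intro l hl y hy
          rw [show l = c from hl, hBc] at hy
          exact ih (k + 1) (by omega) y hy
        | succ e ih' =>
          intro l hl y hy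
          have hcomm := hρ2 (⟨k, by omega⟩, ⟨l, by omega⟩) g ((hσ g).1 hg _) y hy
          have hx : y⁻¹ * (g * y * g⁻¹) ∈ B k (l + 1) := by
            have := (hBn k (l + 1)).conj_mem _ hcomm y⁻¹
            rw [show y⁻¹ * ⁅g, y⁆ * y⁻¹⁻¹ = y⁻¹ * (g * y * g⁻¹) by
              rw [commutatorElement_def]; group] at this
            exact this
          obtain ⟨a, ha⟩ := hT ⟨_, hAT k (hBle k (l + 1) hx)⟩
          exact commute_of_section hodd ⟨a, congrArg Subtype.val ha⟩
            (ih' (l + 1) (by omega) _ hx) (by group)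
      intro y hy
      exact inner c 0 (zero_add c) y (by rw [hB0]; exact hy)
  exact Subgroup.mem_centralizer_iff.2 fun y hy =>
    (key L 0 (zero_add L) y (hA0.symm ▸ hy)).eq.symm

end H58.Bryu
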